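import Cfsg.Agent.CATheorem.KernelPerfect
import Cfsg.Agent.Chars.Exceptional.PartitionFinal
import Cfsg.Agent.CN.OddKernels
import Cfsg.Agent.CN.Quotient

/-!
The theorem of Feit, Hall and Thompson: groups of odd order with nilpotent centralisers are
solvable.
-/

set_option autoImplicit false

namespace CfsgLib.CATheorem

open Cfsg CfsgLib.CN CfsgLib.Chars.Exceptional

universe u

theorem false_of_minSimple_odd_cn {G : Type u} [Group G] [Finite G] (hG : IsMinSimpleOddOrder G)
    (hCN : IsCNGroup G) : False := by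
  let s : Setoid {H : Subgroup G // IsMaxNilpotent H} :=
    { r := fun H K => ∃ g : G, (K : Subgroup G) = (H : Subgroup G).map (MulAut.conj g).toMonoidHom
      iseqv := ⟨fun H => ⟨1, by ext x; simp⟩, fun {H K} ⟨g, hg⟩ => ⟨g⁻¹, by
          rw [hg, Subgroup.map_map]; ext x; simp [mul_assoc]⟩,
        fun {H K M} ⟨g, hg⟩ ⟨k, hk⟩ => ⟨k * g, by
          rw [hk, hg, Subgroup.map_map]; congr 1; ext x; simp [mul_assoc]⟩⟩ }
  let H : Quotient s → Subgroup G := fun i => ((Quotient.out (s := s) i).1)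
  have hH : ∀ i, IsMaxNilpotent (H i) := fun i => (Quotient.out (s := s) i).2
  haveI : Nonempty (Quotient s) := by
    obtain ⟨M, hM, -⟩ := exists_maxNilpotent (G := G) (L := ⊥) inferInstance
    exact ⟨Quotient.mk s ⟨M, hM⟩⟩
  refine CfsgLib.Chars.Exceptional.Partition.no_partition hG.1
    (fun i => Subgroup.normalizer (H i : Set G)) H (fun i => ?_) (fun i => ?_) (fun i => ?_)
    (fun i j hij => ?_) (fun g hg => ?_)
  · refine ⟨Subgroup.le_normalizer, Subgroup.normal_in_normalizer, fun x a ha ha1 hx => ?_,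
      fun k hk hk1 => centralizer_le_maxNilpotent hG hCN (hH i) hk hk1⟩
    by_contra hxn
    have hne : (H i).map (MulAut.conj x).toMonoidHom ≠ H i := fun e =>
      hxn (Subgroup.mem_normalizer_iff_map_conj_eq.mpr e)
    have h0 := maxNilpotent_ti hG hCN (hH i) x hne
    have hm : a ∈ H i ⊓ (H i).map (MulAut.conj x).toMonoidHom :=
      ⟨ha, Subgroup.mem_map.mpr ⟨x⁻¹ * a * x, hx, by simp [mul_assoc]⟩⟩
    rw [h0, Subgroup.mem_bot] at hm
    exact ha1 hm
  · exact lt_of_le_of_ne Subgroup.le_normalizer (normalizer_ne_self hG hCN (hH i)).symm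
  · exact commutator_ne_top_of_nilpotent
      (fun e => maxNilpotent_card_ne_one hG (hH i) (by rw [e, Subgroup.card_bot])) (hH i).1
  · refine Nat.coprime_of_dvd fun p hp hdi hdj => hij ?_
    have := Fact.mk hp
    obtain ⟨g, hg⟩ := isConj_of_shared_prime hCN (hH i) (hH j) hdi hdj
    rw [← Quotient.out_eq (s := s) i, ← Quotient.out_eq (s := s) j]
    exact Quotient.sound ⟨g, hg⟩
  · haveI : IsMulCommutative (Subgroup.zpowers g) := inferInstance
    have hnil : Group.IsNilpotent (Subgroup.zpowers g) :=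
      @CommGroup.isNilpotent (Subgroup.zpowers g) { (inferInstance : Group (Subgroup.zpowers g)) with
        mul_comm := mul_comm' }
    obtain ⟨M, hM, hle⟩ := exists_maxNilpotent hnil
    obtain ⟨x, hx⟩ : ∃ x : G, H (Quotient.mk s ⟨M, hM⟩) = M.map (MulAut.conj x).toMonoidHom :=
      Setoid.symm (Quotient.mk_out (s := s) ⟨M, hM⟩)
    exact ⟨_, x, hx ▸ Subgroup.mem_map.mpr ⟨g, hle (Subgroup.mem_zpowers g), by simp⟩⟩

/-- Groups of odd order with nilpotent centralisers are solvable. -/
theorem cn_theorem : ∀ (n : ℕ) (G : Type u) [Group G] [Finite G], Nat.card G = n →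
    Odd (Nat.card G) → IsCNGroup G → Group.IsSolvable G := by
  intro n
  induction n using Nat.strong_induction_on with
  | _ n ih =>
  intro G _ _ hn hodd hCN
  have hsub : ∀ N : Subgroup G, N ≠ ⊤ → Group.IsSolvable N := fun N hN =>
    ih (Nat.card N) (hn ▸ lt_of_le_of_ne (Subgroup.card_le_card_group N)
      (fun e => hN (Subgroup.eq_top_of_card_eq N e))) N rfl
      (hodd.of_dvd_nat (Subgroup.card_subgroup_dvd_card N)) (isCNGroup_subgroup hCN N)
  by_cases hex : ∃ N : Subgroup G, N.Normal ∧ N ≠ ⊥ ∧ N ≠ ⊤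
  · obtain ⟨N, hNn, hN1, hN2⟩ := hex
    haveI := hNn
    haveI hsN := hsub N hN2
    haveI hsQ : Group.IsSolvable (G ⧸ N) :=
      ih (Nat.card (G ⧸ N)) (by
        rw [← hn, Subgroup.card_eq_card_quotient_mul_card_subgroup N]
        exact lt_mul_right Nat.card_pos (Finite.one_lt_card_iff_nontrivial.mpr
          ((Subgroup.nontrivial_iff_ne_bot N).mpr hN1))) (G ⧸ N) rfl
        (hodd.of_dvd_nat (Subgroup.card_quotient_dvd_card N)) (isCNGroup_quotient hCN N hsN)
    exact Group.isSolvable_of_ker_le_range N.subtype (QuotientGroup.mk' N)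
      (by simp [QuotientGroup.ker_mk'])
  by_cases hab : IsMulCommutative G
  · exact Group.isSolvable_of_comm fun a b => hab.is_comm.comm a b
  exfalso
  haveI : Nontrivial G := by
    by_contra hc
    rw [not_nontrivial_iff_subsingleton] at hc
    exact hab ⟨⟨fun a b => Subsingleton.elim _ _⟩⟩
  haveI : IsSimpleGroup G := ⟨fun N hN => by
    by_contra hc
    push Not at hc
    exact hex ⟨N, hN, hc.1, hc.2⟩⟩
  exact false_of_minSimple_odd_cn ⟨hodd, inferInstance, hab, hsub⟩ hCN

end CfsgLib.CATheorem
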